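import Groth.Agent.Lib.SchDom.ModModel
import Groth.Agent.Lib.SchDom.FreeStrata
import Mathlib.RingTheory.Nilpotent.Lemmas
import Mathlib.RingTheory.Noetherian.Nilpotent
import Mathlib.RingTheory.Localization.Ideal

/-!
# Generic flattening ideals
-/

universe u

namespace Groth.Agent.Flattening

open TensorProduct Groth.Agent.FlatH4 Groth.Agent.SchDom

/-- Over a ring with prime nilradical, a finitely presented module over a finitely presented algebra has
a nilpotent flattening ideal after inverting an element outside the nilradical. -/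
theorem exists_flattening (A B M : Type u) [CommRing A] [CommRing B] [Algebra A B]
    [Algebra.FinitePresentation A B] [AddCommGroup M] [Module B M] [Module A M] [IsScalarTower A B M]
    [Module.FinitePresentation B M] (hA : (nilradical A).IsPrime) :
    ∃ (h : A) (_ : h ∉ nilradical A) (J : Ideal A) (_ : J.FG) (_ : J ≤ nilradical A),
      ∀ (A' : Type u) [CommRing A'] [Algebra A A'], IsUnit (algebraMap A A' h) →
        (Module.Flat A' (A' ⊗[A] M) ↔ J.map (algebraMap A A') = ⊥) := by
  classical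
  obtain ⟨R₁, _, _, S₁, N₁, _, _, _, _, _, _, hR₁, hS₁, hN₁, ⟨e₁⟩⟩ := exists_module_model A B M
  let R := R₁ ⧸ RingHom.ker (algebraMap R₁ A)
  letI : Algebra R A := (RingHom.kerLift (algebraMap R₁ A)).toAlgebra
  have hinj : Function.Injective (algebraMap R A) := RingHom.kerLift_injective _
  haveI : IsScalarTower R₁ R A := IsScalarTower.of_algebraMap_eq fun _ => rfl
  haveI : IsNoetherianRing R :=
    isNoetherianRing_of_surjective R₁ R (Ideal.Quotient.mk _) Ideal.Quotient.mk_surjective
  let S := R ⊗[R₁] S₁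
  let N := R ⊗[R₁] N₁
  letI := tensorModule R₁ R S₁ N₁
  haveI := tensorModule_isScalarTower R₁ R S₁ N₁
  haveI := tensorModule_finite R₁ R S₁ N₁
  haveI : Algebra.FiniteType R S := Algebra.FiniteType.baseChange (A := S₁) R
  let e : A ⊗[R] N ≃ₗ[A] M := (AlgebraTensorModule.cancelBaseChange R₁ R A A N₁).trans e₁
  let P := nilradical R
  have hP : P = (nilradical A).comap (algebraMap R A) := by
    ext x
    rw [Ideal.mem_comap, mem_nilradical, mem_nilradical]
    exact (IsNilpotent.map_iff hinj).symm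
  haveI hPprime : P.IsPrime := hP ▸ hA.comap _
  letI := tensorModule R (R ⧸ P) S N
  haveI := tensorModule_isScalarTower R (R ⧸ P) S N
  haveI := tensorModule_finite R (R ⧸ P) S N
  obtain ⟨f', hf0, hfree, -⟩ := exists_free_and_fg_relations (R := R ⧸ P) (S := (R ⧸ P) ⊗[R] S)
    (M := (R ⧸ P) ⊗[R] N)
  obtain ⟨f, rfl⟩ := Ideal.Quotient.mk_surjective f'
  have hfP : f ∉ P := fun hm => hf0 (Ideal.Quotient.eq_zero_iff_mem.2 hm)
  let Rf := Localization.Away f
  let Pf := P.map (algebraMap R Rf)
  have hnil : IsNilpotent Pf := by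
    obtain ⟨n, hn⟩ := IsNoetherianRing.isNilpotent_nilradical R
    exact ⟨n, by rw [← Ideal.map_pow, show P ^ n = 0 from hn]; exact Ideal.map_bot⟩
  have hu : IsUnit (algebraMap R Rf f) := IsLocalization.Away.algebraMap_isUnit f
  have hfreef : Module.Free (Rf ⧸ Pf) ((Rf ⧸ Pf) ⊗[Rf] (Rf ⊗[R] N)) :=
    free_quot_piece P f hu hfree
  obtain ⟨R₀, hR₀⟩ := FlatSyz.exists_freeness_ideal Pf hnil hfreef
  haveI : IsNoetherianRing Rf := IsLocalization.isNoetherianRing (Submonoid.powers f) Rf inferInstance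
  have hR₀P : R₀ ≤ Pf := by
    have h1 := (hR₀ (Rf ⧸ Pf)).1 inferInstance
    rwa [Ideal.map_eq_bot_iff_le_ker, Ideal.Quotient.algebraMap_eq, Ideal.mk_ker] at h1
  let I := R₀.comap (algebraMap R Rf)
  have hIP : I ≤ P := by
    refine (Ideal.comap_mono hR₀P).trans_eq ?_
    exact IsLocalization.under_map_of_isPrime_disjoint (Submonoid.powers f) Rf hPprime
      (Set.disjoint_left.2 fun x ⟨k, hk⟩ hx => hfP (hPprime.mem_of_pow_mem k (by
        rw [show f ^ k = x from hk]; exact hx)))
  refine ⟨algebraMap R A f, fun hf => hfP ?_, I.map (algebraMap R A),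
    Ideal.FG.map (IsNoetherian.noetherian I) _, ?_, fun A' _ _ hu' => ?_⟩
  · rw [hP]; exact hf
  · exact (Ideal.map_mono hIP).trans (Ideal.map_le_iff_le_comap.2 hP.le)
  letI : Algebra R A' := ((algebraMap A A').comp (algebraMap R A)).toAlgebra
  haveI : IsScalarTower R A A' := IsScalarTower.of_algebraMap_eq fun _ => rfl
  letI : Algebra Rf A' := (IsLocalization.Away.lift f (g := algebraMap R A') hu').toAlgebra
  haveI : IsScalarTower R Rf A' := IsScalarTower.of_algebraMap_eq fun x =>
    (IsLocalization.Away.lift_eq f hu' x).symm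
  let eA : A' ⊗[Rf] (Rf ⊗[R] N) ≃ₗ[A'] A' ⊗[A] M :=
    (AlgebraTensorModule.cancelBaseChange R Rf A' A' N).trans
      ((AlgebraTensorModule.cancelBaseChange R A A' A' N).symm.trans
        (AlgebraTensorModule.congr (LinearEquiv.refl A' A') e))
  have hmap : (I.map (algebraMap R A)).map (algebraMap A A') = R₀.map (algebraMap Rf A') := by
    rw [Ideal.map_map, ← IsScalarTower.algebraMap_eq R A A', IsScalarTower.algebraMap_eq R Rf A',
      ← Ideal.map_map, IsLocalization.map_comap (Submonoid.powers f) Rf]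
  rw [← Module.Flat.equiv_iff eA, hmap]
  refine ⟨fun hfl => (hR₀ A').1 hfl, fun h0 => ?_⟩
  haveI := (hR₀ A').2 h0
  infer_instance

/-- A common flattening ideal for finitely many modules. -/
theorem exists_flattening_family (A : Type u) [CommRing A] (hA : (nilradical A).IsPrime) {ι : Type*} (s : Finset ι)
    (B M : ι → Type u) [∀ i, CommRing (B i)] [∀ i, Algebra A (B i)] [∀ i, Algebra.FinitePresentation A (B i)]
    [∀ i, AddCommGroup (M i)] [∀ i, Module (B i) (M i)] [∀ i, Module A (M i)]
    [∀ i, IsScalarTower A (B i) (M i)] [∀ i, Module.FinitePresentation (B i) (M i)] :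
    ∃ (h : A) (_ : h ∉ nilradical A) (J : Ideal A) (_ : J.FG) (_ : J ≤ nilradical A),
      ∀ (A' : Type u) [CommRing A'] [Algebra A A'], IsUnit (algebraMap A A' h) →
        ((∀ i ∈ s, Module.Flat A' (A' ⊗[A] M i)) ↔ J.map (algebraMap A A') = ⊥) := by
  classical
  choose h hh J hJ hJle hiff using fun i => exists_flattening A (B i) (M i) hA
  refine ⟨∏ i ∈ s, h i, fun hm => ?_, s.sup J, Submodule.fg_finset_sup s J (fun i _ => hJ i),
    Finset.sup_le fun i _ => hJle i, fun A' _ _ hu => ?_⟩
  · obtain ⟨i, -, hi⟩ := hA.prod_mem_iff.1 hm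
    exact hh i hi
  rw [map_prod] at hu
  have hui : ∀ i ∈ s, IsUnit (algebraMap A A' (h i)) := fun i hi => by
    rw [← Finset.mul_prod_erase _ _ hi] at hu
    exact isUnit_of_mul_isUnit_left hu
  rw [Ideal.map_eq_bot_iff_le_ker, Finset.sup_le_iff]
  refine forall₂_congr fun i hi => ?_
  rw [hiff i A' (hui i hi), Ideal.map_eq_bot_iff_le_ker]

end Groth.Agent.Flattening
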